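import Mathlib
import Cfsg.Agent.S0144

/-!
# Perfect subgroups of `Sym(8)`: orbit lemmas (helper65, for S2553)

* `fixOut D` : the subgroup of permutations fixing every point outside `D`, of order `|D|!`.
* `exists_big_orbit` : a nontrivial perfect subgroup has exactly one nontrivial orbit, of size `≥ 5`.
* `no_commuting_perfect` : two nontrivial perfect subgroups of `Sym(8)` cannot commute elementwise.
-/

set_option autoImplicit false

namespace Cfsg.Agent.Helper65.A8Sub

open MulAction

/-- the ambient symmetric group of degree 8 -/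
abbrev Γ := Equiv.Perm (Fin 8)

/-- symmetric groups of degree at most 4 are solvable -/
theorem isSolvable_perm_of_card_le_four {α : Type*} [Finite α] (h : Nat.card α ≤ 4) :
    Group.IsSolvable (Equiv.Perm α) := by
  classical
  have := Fintype.ofFinite α
  have hc : Nat.card (Equiv.Perm α) = (Nat.card α).factorial := by
    rw [Nat.card_eq_fintype_card, Fintype.card_perm, Nat.card_eq_fintype_card]
  have h5 : Nat.card α = 0 ∨ Nat.card α = 1 ∨ Nat.card α = 2 ∨ Nat.card α = 3 ∨ Nat.card α = 4 := by
    omega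
  rcases h5 with h0 | h0 | h0 | h0 | h0
  · exact Cfsg.Agent.S0144.result 2 3 0 0 Nat.prime_two Nat.prime_three (by rw [hc, h0]; rfl)
  · exact Cfsg.Agent.S0144.result 2 3 0 0 Nat.prime_two Nat.prime_three (by rw [hc, h0]; rfl)
  · exact Cfsg.Agent.S0144.result 2 3 1 0 Nat.prime_two Nat.prime_three (by rw [hc, h0]; rfl)
  · exact Cfsg.Agent.S0144.result 2 3 1 1 Nat.prime_two Nat.prime_three (by rw [hc, h0]; rfl)
  · exact Cfsg.Agent.S0144.result 2 3 3 1 Nat.prime_two Nat.prime_three (by rw [hc, h0]; rfl)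

/-- a group of order at most 8 is solvable -/
theorem isSolvable_of_card_le_eight {Q : Type*} [Group Q] [Finite Q] (h : Nat.card Q ≤ 8) :
    Group.IsSolvable Q := by
  have hpos : 0 < Nat.card Q := Nat.card_pos
  have h8 : Nat.card Q = 1 ∨ Nat.card Q = 2 ∨ Nat.card Q = 3 ∨ Nat.card Q = 4 ∨ Nat.card Q = 5 ∨
      Nat.card Q = 6 ∨ Nat.card Q = 7 ∨ Nat.card Q = 8 := by omega
  rcases h8 with h0 | h0 | h0 | h0 | h0 | h0 | h0 | h0
  · exact Cfsg.Agent.S0144.result 2 3 0 0 Nat.prime_two Nat.prime_three (by rw [h0]; rfl)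
  · exact Cfsg.Agent.S0144.result 2 3 1 0 Nat.prime_two Nat.prime_three (by rw [h0]; rfl)
  · exact Cfsg.Agent.S0144.result 2 3 0 1 Nat.prime_two Nat.prime_three (by rw [h0]; rfl)
  · exact Cfsg.Agent.S0144.result 2 3 2 0 Nat.prime_two Nat.prime_three (by rw [h0]; rfl)
  · exact Cfsg.Agent.S0144.result 5 3 1 0 (by norm_num) Nat.prime_three (by rw [h0]; rfl)
  · exact Cfsg.Agent.S0144.result 2 3 1 1 Nat.prime_two Nat.prime_three (by rw [h0]; rfl)
  · exact Cfsg.Agent.S0144.result 7 3 1 0 (by norm_num) Nat.prime_three (by rw [h0]; rfl)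
  · exact Cfsg.Agent.S0144.result 2 3 3 0 Nat.prime_two Nat.prime_three (by rw [h0]; rfl)

/-- a homomorphism from a perfect group to a solvable group is trivial -/
theorem hom_eq_one_of_perfect_of_solvable {P S : Type*} [Group P] [Group S] [Group.IsPerfect P]
    [hS : Group.IsSolvable S] (f : P →* S) (g : P) : f g = 1 := by
  obtain ⟨n, hn⟩ := hS.solvable
  have h1 : (derivedSeries P n).map f ≤ derivedSeries S n := map_derivedSeries_le_derivedSeries f n
  rw [Group.IsPerfect.derivedSeries_eq_top, hn] at h1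
  have : f g ∈ (⊤ : Subgroup P).map f := Subgroup.mem_map_of_mem f (Subgroup.mem_top g)
  exact (Subgroup.mem_bot).1 (h1 this)

/-- a perfect solvable group is trivial -/
theorem eq_one_of_perfect_of_solvable {P : Type*} [Group P] [Group.IsPerfect P]
    [Group.IsSolvable P] (g : P) : g = 1 :=
  hom_eq_one_of_perfect_of_solvable (MonoidHom.id P) g

/-! ### the subgroup fixing everything outside a set -/

/-- permutations fixing every point outside `D` -/
def fixOut (D : Set (Fin 8)) : Subgroup Γ where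
  carrier := {σ | ∀ a, a ∉ D → σ a = a}
  one_mem' := fun a _ => rfl
  mul_mem' := by
    intro σ τ hσ hτ a ha
    change σ (τ a) = a
    rw [hτ a ha, hσ a ha]
  inv_mem' := by
    intro σ hσ a ha
    have := hσ a ha
    calc σ⁻¹ a = σ⁻¹ (σ a) := by rw [this]
      _ = a := by simp

theorem mem_fixOut {D : Set (Fin 8)} {σ : Γ} : σ ∈ fixOut D ↔ ∀ a, a ∉ D → σ a = a := Iff.rfl

theorem card_fixOut (D : Set (Fin 8)) : Nat.card (fixOut D) = (Nat.card D).factorial := by
  classical
  have e : (fixOut D) ≃ Equiv.Perm (Subtype (fun a => a ∈ D)) :=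
    (Equiv.Perm.subtypeEquivSubtypePerm (fun a => a ∈ D)).symm
  rw [Nat.card_congr e, Nat.card_eq_fintype_card, Fintype.card_perm, Nat.card_eq_fintype_card]

/-! ### perfect subgroups -/

/-- a perfect subgroup acts trivially on every orbit of size at most 4 -/
theorem fixed_of_small_orbit (P : Subgroup Γ) [Group.IsPerfect P] (a : Fin 8)
    (h : Nat.card (orbit P a) ≤ 4) : ∀ σ ∈ P, σ a = a := by
  intro σ hσ
  have : Group.IsSolvable (Equiv.Perm (orbit P a)) := isSolvable_perm_of_card_le_four h
  have h1 := hom_eq_one_of_perfect_of_solvable (MulAction.toPermHom P (orbit P a)) ⟨σ, hσ⟩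
  have h2 := congrArg (fun f => (f ⟨a, mem_orbit_self a⟩ : orbit P a)) h1
  simp only [MulAction.toPermHom_apply, MulAction.toPerm_apply, Equiv.Perm.coe_one, id_eq] at h2
  have h3 := congrArg Subtype.val h2
  simpa using h3

theorem card_orbit_add_le (P : Subgroup Γ) (a b : Fin 8) (hb : b ∉ orbit P a) :
    Nat.card (orbit P a) + Nat.card (orbit P b) ≤ 8 := by
  classical
  have hdisj : Disjoint (orbit P a) (orbit P b) := by
    rw [Set.disjoint_left]
    intro c hca hcb
    apply hb
    have h1 : orbit P c = orbit P a := orbit_eq_iff.2 hca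
    have h2 : orbit P c = orbit P b := orbit_eq_iff.2 hcb
    rw [← h1, h2]
    exact mem_orbit_self b
  have := Set.ncard_union_eq hdisj (Set.toFinite _) (Set.toFinite _)
  have hle : (orbit P a ∪ orbit P b).ncard ≤ (Set.univ : Set (Fin 8)).ncard :=
    Set.ncard_le_ncard (Set.subset_univ _) (Set.toFinite _)
  rw [Set.ncard_univ, Nat.card_eq_fintype_card, Fintype.card_fin] at hle
  rw [Nat.card_coe_set_eq, Nat.card_coe_set_eq]
  omega

/-- a nontrivial perfect subgroup of `Sym(8)` has exactly one nontrivial orbit; it has size `≥ 5` -/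
theorem exists_big_orbit (P : Subgroup Γ) [Group.IsPerfect P] (hne : P ≠ ⊥) :
    ∃ a : Fin 8, 5 ≤ Nat.card (orbit P a) ∧ ∀ b, b ∉ orbit P a → ∀ σ ∈ P, σ b = b := by
  obtain ⟨σ, hσ, hσ1⟩ : ∃ σ ∈ P, σ ≠ 1 := by
    by_contra hcon
    push Not at hcon
    exact hne ((Subgroup.eq_bot_iff_forall P).2 hcon)
  obtain ⟨a, ha⟩ : ∃ a, σ a ≠ a := by
    by_contra hcon
    push Not at hcon
    exact hσ1 (Equiv.ext hcon)
  have h5 : 5 ≤ Nat.card (orbit P a) := by
    by_contra hlt
    exact ha (fixed_of_small_orbit P a (by omega) σ hσ)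
  refine ⟨a, h5, fun b hb => ?_⟩
  have := card_orbit_add_le P a b hb
  exact fixed_of_small_orbit P b (by omega)

/-- two nontrivial perfect subgroups of `Sym(8)` cannot commute elementwise -/
theorem no_commuting_perfect (P Q : Subgroup Γ) [Group.IsPerfect P] [Group.IsPerfect Q]
    (hP : P ≠ ⊥) (hQ : Q ≠ ⊥) (hcomm : ∀ σ ∈ P, ∀ τ ∈ Q, σ * τ = τ * σ) : False := by
  classical
  obtain ⟨a, ha5, hafix⟩ := exists_big_orbit P hP
  obtain ⟨b, hb5, hbfix⟩ := exists_big_orbit Q hQ
  -- the two big orbits meet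
  obtain ⟨c, hca, hcb⟩ : ∃ c, c ∈ orbit P a ∧ c ∈ orbit Q b := by
    by_contra hcon
    push Not at hcon
    have hdisj : Disjoint (orbit P a) (orbit Q b) := Set.disjoint_left.2 hcon
    have h1 := Set.ncard_union_eq hdisj (Set.toFinite _) (Set.toFinite _)
    have hle : (orbit P a ∪ orbit Q b).ncard ≤ (Set.univ : Set (Fin 8)).ncard :=
      Set.ncard_le_ncard (Set.subset_univ _) (Set.toFinite _)
    rw [Set.ncard_univ, Nat.card_eq_fintype_card, Fintype.card_fin] at hle
    rw [Nat.card_coe_set_eq] at ha5 hb5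
    omega
  have hPc : orbit P c = orbit P a := orbit_eq_iff.2 hca
  have hQc : orbit Q c = orbit Q b := orbit_eq_iff.2 hcb
  -- some element of `P` moves `c`
  have hmoveP : ∀ e ∈ orbit P a, ∃ σ ∈ P, σ e ≠ e := by
    intro e he
    by_contra hcon
    push Not at hcon
    have : orbit P e = {e} := by
      ext x
      constructor
      · rintro ⟨σ, rfl⟩
        exact hcon σ.1 σ.2
      · rintro rfl
        exact mem_orbit_self _
    have h1 : orbit P e = orbit P a := orbit_eq_iff.2 he
    rw [← h1, this] at ha5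
    simp at ha5
  -- `Q` preserves the big orbit of `P`
  have hQpres : ∀ τ ∈ Q, ∀ e ∈ orbit P a, τ e ∈ orbit P a := by
    intro τ hτ e he
    by_contra hnot
    obtain ⟨σ, hσ, hσe⟩ := hmoveP e he
    have h1 : σ (τ e) = τ e := hafix (τ e) hnot σ hσ
    have h2 : σ (τ e) = τ (σ e) := by
      have := congrArg (fun f : Γ => f e) (hcomm σ hσ τ hτ)
      simpa using this
    rw [h2] at h1
    exact hσe (τ.injective h1)
  -- the stabilizer of `c` in `Q` is trivial
  have hstab : ∀ τ ∈ Q, τ c = c → τ = 1 := by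
    intro τ hτ hτc
    apply Equiv.ext
    intro e
    rw [Equiv.Perm.coe_one, id_eq]
    by_cases he : e ∈ orbit P a
    · rw [← hPc] at he
      obtain ⟨σ, rfl⟩ := he
      change τ (σ.1 c) = σ.1 c
      have := congrArg (fun f : Γ => f c) (hcomm σ.1 σ.2 τ hτ)
      simp only [Equiv.Perm.coe_mul, Function.comp_apply] at this
      rw [← this, hτc]
    · -- `e` is outside the big orbit of `P`, hence outside the big orbit of `Q`
      have heQ : e ∉ orbit Q b := by
        intro heQ
        rw [← hQc] at heQ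
        obtain ⟨τ', rfl⟩ := heQ
        apply he
        exact hQpres τ'.1 τ'.2 c hca
      exact hbfix e heQ τ hτ
  -- hence `Q` has order at most 8
  have hcardQ : Nat.card Q ≤ 8 := by
    have hinj : Function.Injective (fun τ : Q => τ.1 c) := by
      intro τ τ' h
      have h1 : (τ'⁻¹ * τ : Q).1 c = c := by
        change (τ'.1⁻¹ * τ.1) c = c
        simp only [Equiv.Perm.coe_mul, Function.comp_apply]
        have h' : τ.1 c = τ'.1 c := h
        rw [h']
        simp
      have h2 := hstab _ (τ'⁻¹ * τ : Q).2 h1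
      have h3 : τ'⁻¹ * τ = 1 := Subtype.ext h2
      have : τ = τ' := by
        have := congrArg (fun x => τ' * x) h3
        simpa using this
      exact this
    have := Nat.card_le_card_of_injective _ hinj
    simpa using this
  have : Group.IsSolvable Q := isSolvable_of_card_le_eight hcardQ
  apply hQ
  rw [Subgroup.eq_bot_iff_forall]
  intro τ hτ
  have := eq_one_of_perfect_of_solvable (⟨τ, hτ⟩ : Q)
  exact congrArg Subtype.val this

end Cfsg.Agent.Helper65.A8Sub
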