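import Mathlib
import Cfsg.Agent.Lib.Helper65.A8Sub.Orbit

/-!
# The action of `K` on the support of a perfect normal subgroup `L` (helper65, for S2553)
-/

set_option autoImplicit false

namespace Cfsg.Agent.Helper65.A8Sub

open MulAction

/-- the data: `L ≤ K ≤ Sym(8)`, `L` perfect nontrivial, normalized by `K`, with trivial centralizer in `K`,
and `D` the big orbit of `L`. -/
structure Setup (K L : Subgroup Γ) (D : Set (Fin 8)) : Prop where
  le : L ≤ K
  norm : ∀ k ∈ K, ∀ l ∈ L, k * l * k⁻¹ ∈ L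
  cent : ∀ k ∈ K, (∀ l ∈ L, k * l = l * k) → k = 1
  big : 5 ≤ Nat.card D
  fixOut : ∀ b, b ∉ D → ∀ σ ∈ L, σ b = b
  trans : ∀ a ∈ D, ∀ b ∈ D, ∃ σ ∈ L, σ a = b
  stable : ∀ σ ∈ L, ∀ a ∈ D, σ a ∈ D

theorem exists_setup (K L : Subgroup Γ) [Group.IsPerfect L] (hne : L ≠ ⊥) (hle : L ≤ K)
    (hnorm : ∀ k ∈ K, ∀ l ∈ L, k * l * k⁻¹ ∈ L)
    (hcent : ∀ k ∈ K, (∀ l ∈ L, k * l = l * k) → k = 1) :
    ∃ D : Set (Fin 8), Setup K L D := by
  obtain ⟨a, h5, hfix⟩ := exists_big_orbit L hne
  refine ⟨orbit L a, hle, hnorm, hcent, h5, hfix, ?_, ?_⟩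
  · intro x hx y hy
    have h1 : orbit L x = orbit L a := orbit_eq_iff.2 hx
    rw [← h1] at hy
    obtain ⟨σ, rfl⟩ := hy
    exact ⟨σ.1, σ.2, rfl⟩
  · intro σ hσ x hx
    have h1 : orbit L x = orbit L a := orbit_eq_iff.2 hx
    rw [← h1]
    exact ⟨⟨σ, hσ⟩, rfl⟩

namespace Setup

variable {K L : Subgroup Γ} {D : Set (Fin 8)}

theorem moved (h : Setup K L D) : ∀ a ∈ D, ∃ σ ∈ L, σ a ≠ a := by
  classical
  intro a ha
  by_contra hcon
  push Not at hcon
  have hD : D = {a} := by
    ext b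
    constructor
    · intro hb
      obtain ⟨σ, hσ, rfl⟩ := h.trans a ha b hb
      exact hcon σ hσ
    · rintro rfl
      exact ha
  have := h.big
  rw [hD] at this
  simp at this

theorem mem_iff (h : Setup K L D) : ∀ k ∈ K, ∀ a, k a ∈ D ↔ a ∈ D := by
  have key : ∀ k ∈ K, ∀ a, a ∈ D → k a ∈ D := by
    intro k hk a ha
    by_contra hnot
    obtain ⟨σ, hσ, hσa⟩ := h.moved a ha
    have h1 : (k * σ * k⁻¹) (k a) = k a := h.fixOut (k a) hnot _ (h.norm k hk σ hσ)
    simp only [Equiv.Perm.coe_mul, Function.comp_apply] at h1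
    have h2 : k⁻¹ (k a) = a := by simp
    rw [h2] at h1
    exact hσa (k.injective h1)
  intro k hk a
  constructor
  · intro hka
    have := key k⁻¹ (K.inv_mem hk) (k a) hka
    simpa using this
  · exact key k hk a

theorem faithful (h : Setup K L D) : ∀ k ∈ K, (∀ a ∈ D, k a = a) → k = 1 := by
  intro k hk hfix
  apply h.cent k hk
  intro l hl
  ext a
  simp only [Equiv.Perm.coe_mul, Function.comp_apply]
  by_cases ha : a ∈ D
  · rw [hfix a ha, hfix (l a) (h.stable l hl a ha)]
  · have hka : k a ∉ D := fun hc => ha ((h.mem_iff k hk a).1 hc)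
    rw [h.fixOut a ha l hl, h.fixOut (k a) hka l hl]

theorem le_fixOut (h : Setup K L D) : L ≤ A8Sub.fixOut D := fun σ hσ a ha => h.fixOut a ha σ hσ

/-- restriction of `K` to `D` -/
noncomputable def resHom (h : Setup K L D) : K →* Equiv.Perm (Subtype (fun a => a ∈ D)) where
  toFun k := Equiv.Perm.subtypePerm k.1 (h.mem_iff k.1 k.2)
  map_one' := by
    apply Equiv.ext
    intro a
    apply Subtype.ext
    rfl
  map_mul' := by
    intro k k'
    apply Equiv.ext
    intro a
    apply Subtype.ext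
    rfl

theorem resHom_apply (h : Setup K L D) (k : K) (a : Subtype (fun a => a ∈ D)) :
    ((h.resHom k) a : Fin 8) = k.1 a.1 := rfl

theorem resHom_injective (h : Setup K L D) : Function.Injective h.resHom := by
  rw [injective_iff_map_eq_one]
  intro k hk
  apply Subtype.ext
  apply h.faithful k.1 k.2
  intro a ha
  have := congrArg (fun f => ((f ⟨a, ha⟩ : Subtype (fun a => a ∈ D)) : Fin 8)) hk
  simpa [resHom_apply] using this

theorem card_dvd (h : Setup K L D) : Nat.card K ∣ (Nat.card D).factorial := by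
  classical
  have h1 := Subgroup.card_dvd_of_injective h.resHom h.resHom_injective
  have h2 : Nat.card (Equiv.Perm (Subtype (fun a => a ∈ D))) = (Nat.card D).factorial := by
    rw [Nat.card_eq_fintype_card, Fintype.card_perm, Nat.card_eq_fintype_card]
  rwa [h2] at h1

theorem card_L_dvd (h : Setup K L D) : Nat.card L ∣ (Nat.card D).factorial := by
  have := Subgroup.card_dvd_of_le h.le_fixOut
  rwa [card_fixOut] at this

/-- `|D|` divides `|L|` (orbit-stabilizer) -/
theorem card_D_dvd (h : Setup K L D) : Nat.card D ∣ Nat.card L := by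
  classical
  have hne : D.Nonempty := by
    by_contra hcon
    rw [Set.not_nonempty_iff_eq_empty] at hcon
    have := h.big
    rw [hcon] at this
    simp at this
  obtain ⟨a, ha⟩ := hne
  have hD : D = orbit L a := by
    ext b
    constructor
    · intro hb
      obtain ⟨σ, hσ, rfl⟩ := h.trans a ha b hb
      exact ⟨⟨σ, hσ⟩, rfl⟩
    · rintro ⟨σ, rfl⟩
      exact h.stable σ.1 σ.2 a ha
  have := MulAction.card_orbit_mul_card_stabilizer_eq_card_group L a
  rw [hD]
  exact ⟨_, by rw [← Nat.card_eq_fintype_card, ← Nat.card_eq_fintype_card, ← Nat.card_eq_fintype_card] at this; exact this.symm⟩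

end Setup

end Cfsg.Agent.Helper65.A8Sub
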