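import Mathlib
import Cfsg.Agent.Lib.Helper22.Structure
import Cfsg.Agent.Lib.Helper22.LBal8
import Cfsg.Agent.Lib.Helper34.Components2
import Cfsg.Agent.Lib.Helper65.A8Sub.Orbit

/-!
# A group with `O_2 = O_{2'} = 1` embedded in `Sym(8)` has a simple normal subgroup with trivial
centralizer (helper65, for S2553)
-/

set_option autoImplicit false

namespace Cfsg.Agent.Helper65.A8Sub

open Subgroup
open scoped commutatorElement

variable {X : Type*} [Group X] [Finite X]

theorem fitting_eq_bot (hO : Cfsg.pPrimeCore 2 X = ⊥) (hO2 : Cfsg.pCore 2 X = ⊥) :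
    Cfsg.fittingSubgroup X = ⊥ := by
  haveI : Fact (Nat.Prime 2) := ⟨Nat.prime_two⟩
  have h := Cfsg.Agent.Helper22.fittingSubgroup_le_pCore_sup_pPrimeCore (G := X) 2
  rw [hO, hO2, sup_bot_eq] at h
  exact le_bot_iff.1 h

theorem exists_component [Nontrivial X] (hF : Cfsg.fittingSubgroup X = ⊥) :
    ∃ L : Subgroup X, Cfsg.IsComponent L := by
  by_contra hcon
  push Not at hcon
  have hlayer : Cfsg.layer X = ⊥ := Cfsg.Agent.Helper22.layer_eq_bot_iff.2 hcon
  have hgf : Cfsg.generalizedFittingSubgroup X = ⊥ := by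
    rw [Cfsg.Agent.Helper22.generalizedFittingSubgroup_eq, hlayer, hF, sup_bot_eq]
  have h := Cfsg.Agent.Helper22.centralizer_generalizedFittingSubgroup_le (G := X)
  rw [hgf] at h
  obtain ⟨x, hx⟩ := exists_ne (1 : X)
  have hx' : x ∈ centralizer (((⊥ : Subgroup X) : Subgroup X) : Set X) := by
    rw [mem_centralizer_iff]
    intro y hy
    rw [SetLike.mem_coe, mem_bot] at hy
    rw [hy]; simp
  exact hx (mem_bot.1 (h hx'))

/-- The key structural statement. -/
theorem exists_simple_normal [Nontrivial X] (ι : X →* Γ) (hι : Function.Injective ι)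
    (hO : Cfsg.pPrimeCore 2 X = ⊥) (hO2 : Cfsg.pCore 2 X = ⊥) :
    ∃ L : Subgroup X, L.Normal ∧ IsSimpleGroup L ∧ Group.IsPerfect L ∧ L ≠ ⊥ ∧
      centralizer (L : Set X) = ⊥ := by
  have hF := fitting_eq_bot hO hO2
  obtain ⟨L, hL⟩ := exists_component hF
  haveI hLperf : Group.IsPerfect L := hL.2.1
  have hLne : L ≠ ⊥ := Cfsg.Agent.Helper22.IsQuasisimple.ne_bot hL.2
  -- every component equals `L`
  have huniq : ∀ M : Subgroup X, Cfsg.IsComponent M → M = L := by
    intro M hM
    rcases Cfsg.Agent.Helper34.components_eq_or_commute hM hL with h | h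
    · exact h
    · exfalso
      haveI hMperf : Group.IsPerfect M := hM.2.1
      have hMne : M ≠ ⊥ := Cfsg.Agent.Helper22.IsQuasisimple.ne_bot hM.2
      haveI : Group.IsPerfect (M.map ι) := Group.IsPerfect.map ι
      haveI : Group.IsPerfect (L.map ι) := Group.IsPerfect.map ι
      refine no_commuting_perfect (M.map ι) (L.map ι) ?_ ?_ ?_
      · intro hbot
        exact hMne ((map_eq_bot_iff_of_injective M hι).1 hbot)
      · intro hbot
        exact hLne ((map_eq_bot_iff_of_injective L hι).1 hbot)
      · rintro σ ⟨m, hm, rfl⟩ τ ⟨l, hl, rfl⟩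
        have hc : ⁅m, l⁆ = 1 := by
          have : ⁅m, l⁆ ∈ ⁅M, L⁆ := commutator_mem_commutator hm hl
          rw [h] at this
          exact mem_bot.1 this
        have hml : m * l = l * m := commutatorElement_eq_one_iff_mul_comm.1 hc
        rw [← map_mul, ← map_mul, hml]
  -- `L` is normal
  have hLn : L.Normal := by
    refine ⟨fun l hl g => ?_⟩
    have hconj := Cfsg.Agent.Helper22.IsComponent.conj hL g
    have h1 := huniq _ hconj
    have : g * l * g⁻¹ ∈ L.map (MulAut.conj g).toMonoidHom := ⟨l, hl, by simp [MulAut.conj_apply]⟩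
    rwa [h1] at this
  -- the layer is `L`
  have hlayer : Cfsg.layer X = L := by
    apply le_antisymm
    · exact sSup_le fun M hM => (huniq M hM).le
    · exact Cfsg.Agent.Helper22.IsComponent.le_layer hL
  have hgf : Cfsg.generalizedFittingSubgroup X = L := by
    rw [Cfsg.Agent.Helper22.generalizedFittingSubgroup_eq, hlayer, hF, sup_bot_eq]
  have hcent : centralizer (L : Set X) = ⊥ := by
    have h1 := Cfsg.Agent.Helper22.centralizer_generalizedFittingSubgroup_le (G := X)
    rw [hgf] at h1
    have h2 := Cfsg.Agent.Helper22.layer_inf_centralizer_layer_le_fittingSubgroup (G := X)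
    rw [hlayer, hF] at h2
    rw [eq_bot_iff]
    intro x hx
    exact h2 (mem_inf.2 ⟨h1 hx, hx⟩)
  -- `L` is simple
  have hZ : center L = ⊥ := by
    rw [eq_bot_iff]
    intro z hz
    rw [mem_bot]
    have : (z : X) ∈ centralizer (L : Set X) := by
      rw [mem_centralizer_iff]
      intro y hy
      have := mem_center_iff.1 hz ⟨y, hy⟩
      exact congrArg Subtype.val this
    rw [hcent, mem_bot] at this
    exact Subtype.ext this
  have hsimple : IsSimpleGroup L := by
    have hq : IsSimpleGroup (L ⧸ center L) := hL.2.2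
    have e : L ⧸ center L ≃* L :=
      (QuotientGroup.quotientMulEquivOfEq hZ).trans QuotientGroup.quotientBot
    haveI := hq
    exact e.symm.isSimpleGroup
  exact ⟨L, hLn, hsimple, hLperf, hLne, hcent⟩

end Cfsg.Agent.Helper65.A8Sub
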