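import Mathlib
import Cfsg.Agent.Lib.Helper5.Order60

/-!
# `GL₄(2)` has no simple subgroup of order `1344` (helper65, for S2553)

A simple subgroup `L` of order `1344` fixes a nonzero vector `v` (orbits on the `15` nonzero vectors
have size `1` or `≥ 8`), then acts trivially on the `8`-element quotient `V / ⟨v⟩`, hence has
exponent `2`: absurd.
-/

set_option autoImplicit false

namespace Cfsg.Agent.Helper65.A8Sub

open MulAction

abbrev V4 := Fin 4 → ZMod 2
abbrev G4 := Matrix.GeneralLinearGroup (Fin 4) (ZMod 2)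

theorem dvd_factorial_index {S : Type*} [Group S] [Finite S] [IsSimpleGroup S] (H : Subgroup S)
    (hH : H ≠ ⊤) : Nat.card S ∣ (H.index).factorial := by
  classical
  have hinj := Cfsg.Agent.Helper5.injective_toPermHom_quotient H hH
  have h1 := Subgroup.card_dvd_of_injective _ hinj
  have : Fintype (S ⧸ H) := Fintype.ofFinite _
  have h2 : Nat.card (Equiv.Perm (S ⧸ H)) = (H.index).factorial := by
    rw [Nat.card_eq_fintype_card, Fintype.card_perm, ← Nat.card_eq_fintype_card,
      Subgroup.index_eq_card]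
  rwa [h2] at h1

theorem smul_eq_of_orbit_le_seven {S : Type*} [Group S] [Finite S] [IsSimpleGroup S]
    (hS : Nat.card S = 1344) {X : Type*} [MulAction S X] (x : X)
    (h : (orbit S x).ncard ≤ 7) (g : S) : g • x = x := by
  have hidx := MulAction.index_stabilizer S x
  by_cases htop : stabilizer S x = ⊤
  · have : g ∈ stabilizer S x := by rw [htop]; trivial
    exact this
  · exfalso
    have h1 := dvd_factorial_index _ htop
    rw [hidx, hS] at h1
    have h2 : ((orbit S x).ncard).factorial ∣ (7).factorial := Nat.factorial_dvd_factorial h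
    have := h1.trans h2
    norm_num [Nat.factorial] at this

theorem orbit_ncard_dvd {S : Type*} [Group S] [Finite S] {X : Type*} [MulAction S X] (x : X) :
    (orbit S x).ncard ∣ Nat.card S := by
  rw [← MulAction.index_stabilizer S x]
  exact Subgroup.index_dvd_card _

/-- the natural action of a subgroup of `GL₄(2)` on column vectors -/
@[reducible] def vecAction (L : Subgroup G4) : MulAction L V4 where
  smul g w := (g.1 : Matrix (Fin 4) (Fin 4) (ZMod 2)).mulVec w
  one_smul w := by
    change ((1 : G4) : Matrix (Fin 4) (Fin 4) (ZMod 2)).mulVec w = w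
    simp
  mul_smul g h w := by
    change ((g.1 * h.1 : G4) : Matrix (Fin 4) (Fin 4) (ZMod 2)).mulVec w =
      (g.1 : Matrix (Fin 4) (Fin 4) (ZMod 2)).mulVec
        ((h.1 : Matrix (Fin 4) (Fin 4) (ZMod 2)).mulVec w)
    simp [Matrix.mulVec_mulVec]

attribute [local instance] vecAction

theorem vec_smul_def (L : Subgroup G4) (g : L) (w : V4) :
    g • w = (g.1 : Matrix (Fin 4) (Fin 4) (ZMod 2)).mulVec w := rfl

theorem card_V4 : Nat.card V4 = 16 := by
  rw [Nat.card_eq_fintype_card]
  simp [V4]

theorem exists_fixed_vector (L : Subgroup G4) [IsSimpleGroup L] (hL : Nat.card L = 1344) :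
    ∃ v : V4, v ≠ 0 ∧ ∀ g ∈ L, (g : Matrix (Fin 4) (Fin 4) (ZMod 2)).mulVec v = v := by
  classical
  by_contra hcon
  push Not at hcon
  have hbig : ∀ w : V4, w ≠ 0 → 8 ≤ (orbit L w).ncard := by
    intro w hw
    by_contra hlt
    push Not at hlt
    obtain ⟨g, hg, hne⟩ := hcon w hw
    exact hne (smul_eq_of_orbit_le_seven hL w (by omega) ⟨g, hg⟩)
  have hzero : ∀ w : V4, w ≠ 0 → (0 : V4) ∉ orbit L w := by
    rintro w hw ⟨g, hg⟩
    apply hw
    have hg' : g • w = 0 := hg
    have h1 : g⁻¹ • (g • w) = g⁻¹ • (0 : V4) := by rw [hg']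
    rw [inv_smul_smul] at h1
    rw [h1, vec_smul_def]
    simp
  have hw0 : (Pi.single 0 1 : V4) ≠ 0 := by
    intro h
    have := congrFun h 0
    simp at this
  set w0 : V4 := Pi.single 0 1 with hw0def
  by_cases hall : ∀ w : V4, w ≠ 0 → w ∈ orbit L w0
  · -- the orbit is everything but `0`: size 15
    have huniv : insert (0 : V4) (orbit L w0) = Set.univ := by
      ext w
      simp only [Set.mem_insert_iff, Set.mem_univ, iff_true]
      by_cases hw : w = 0
      · exact Or.inl hw
      · exact Or.inr (hall w hw)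
    have hcard : (insert (0 : V4) (orbit L w0)).ncard = (orbit L w0).ncard + 1 :=
      Set.ncard_insert_of_notMem (hzero w0 hw0) (Set.toFinite _)
    rw [huniv, Set.ncard_univ, card_V4] at hcard
    have hdvd := orbit_ncard_dvd (S := L) w0
    rw [hL] at hdvd
    have h15 : (orbit L w0).ncard = 15 := by omega
    rw [h15] at hdvd
    norm_num at hdvd
  · push Not at hall
    obtain ⟨w1, hw1, hw1not⟩ := hall
    have hdisj : Disjoint (orbit L w0) (orbit L w1) := by
      rw [Set.disjoint_left]
      intro x hx0 hx1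
      apply hw1not
      have e0 : orbit L x = orbit L w0 := orbit_eq_iff.2 hx0
      have e1 : orbit L x = orbit L w1 := orbit_eq_iff.2 hx1
      rw [← e0, e1]
      exact mem_orbit_self w1
    have h0not : (0 : V4) ∉ orbit L w0 ∪ orbit L w1 := by
      intro h
      rcases h with h | h
      · exact hzero w0 hw0 h
      · exact hzero w1 hw1 h
    have hc1 : (orbit L w0 ∪ orbit L w1).ncard = (orbit L w0).ncard + (orbit L w1).ncard :=
      Set.ncard_union_eq hdisj (Set.toFinite _) (Set.toFinite _)
    have hc2 : (insert (0 : V4) (orbit L w0 ∪ orbit L w1)).ncard =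
        (orbit L w0 ∪ orbit L w1).ncard + 1 :=
      Set.ncard_insert_of_notMem h0not (Set.toFinite _)
    have hc3 : (insert (0 : V4) (orbit L w0 ∪ orbit L w1)).ncard ≤ Nat.card V4 := by
      rw [← Set.ncard_univ]
      exact Set.ncard_le_ncard (Set.subset_univ _) (Set.toFinite _)
    have := hbig w0 hw0
    have := hbig w1 hw1
    rw [card_V4] at hc3
    omega

theorem sq_eq_one_of_fixed (L : Subgroup G4) [IsSimpleGroup L] (hL : Nat.card L = 1344)
    (v : V4) (hv : v ≠ 0)
    (hfix : ∀ g ∈ L, (g : Matrix (Fin 4) (Fin 4) (ZMod 2)).mulVec v = v) :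
    ∀ g ∈ L, g * g = 1 := by
  classical
  set p : Submodule (ZMod 2) V4 := Submodule.span (ZMod 2) {v} with hpdef
  have hvp : v ∈ p := Submodule.mem_span_singleton_self v
  have hp : ∀ g ∈ L, p ≤ p.comap (Matrix.mulVecLin (g : Matrix (Fin 4) (Fin 4) (ZMod 2))) := by
    intro g hg x hx
    rw [Submodule.mem_comap]
    obtain ⟨c, rfl⟩ := Submodule.mem_span_singleton.1 hx
    rw [Matrix.mulVecLin_apply, Matrix.mulVec_smul, hfix g hg]
    exact Submodule.smul_mem _ _ hvp
  letI act : MulAction L (V4 ⧸ p) :=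
    { smul := fun g q =>
        p.mapQ p (Matrix.mulVecLin (g.1 : Matrix (Fin 4) (Fin 4) (ZMod 2))) (hp g.1 g.2) q
      one_smul := by
        intro q
        obtain ⟨w, rfl⟩ := Submodule.Quotient.mk_surjective p q
        change p.mapQ p (Matrix.mulVecLin (((1 : L) : G4) : Matrix (Fin 4) (Fin 4) (ZMod 2))) _
          (Submodule.Quotient.mk w) = Submodule.Quotient.mk w
        rw [Submodule.mapQ_apply]
        simp
      mul_smul := by
        intro g h q
        obtain ⟨w, rfl⟩ := Submodule.Quotient.mk_surjective p q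
        change p.mapQ p (Matrix.mulVecLin (((g * h : L) : G4) : Matrix (Fin 4) (Fin 4) (ZMod 2))) _
          (Submodule.Quotient.mk w) =
          p.mapQ p (Matrix.mulVecLin ((g : G4) : Matrix (Fin 4) (Fin 4) (ZMod 2))) _
            (p.mapQ p (Matrix.mulVecLin ((h : G4) : Matrix (Fin 4) (Fin 4) (ZMod 2))) _
              (Submodule.Quotient.mk w))
        rw [Submodule.mapQ_apply, Submodule.mapQ_apply, Submodule.mapQ_apply]
        simp [Matrix.mulVec_mulVec] }
  have hact : ∀ (g : L) (w : V4), g • (Submodule.Quotient.mk w : V4 ⧸ p) =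
      Submodule.Quotient.mk ((g.1 : Matrix (Fin 4) (Fin 4) (ZMod 2)).mulVec w) := by
    intro g w
    rfl
  -- the quotient has at most 8 elements
  have hcardq : Nat.card (V4 ⧸ p) ≤ 8 := by
    have h1 := Submodule.card_eq_card_quotient_mul_card p
    rw [card_V4] at h1
    have h2 : 1 < Nat.card p := by
      rw [Finite.one_lt_card_iff_nontrivial]
      refine ⟨⟨0, p.zero_mem⟩, ⟨v, hvp⟩, ?_⟩
      intro h
      apply hv
      exact (congrArg Subtype.val h).symm
    nlinarith
  -- the action on the quotient is trivial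
  have htriv : ∀ (g : L) (q : V4 ⧸ p), g • q = q := by
    intro g q
    by_cases hq : q = 0
    · subst hq
      change p.mapQ p _ _ 0 = 0
      exact map_zero _
    · apply smul_eq_of_orbit_le_seven hL q
      have h0 : (0 : V4 ⧸ p) ∉ orbit L q := by
        rintro ⟨k, hk⟩
        apply hq
        have hk' : k • q = 0 := hk
        have h1 : k⁻¹ • (k • q) = k⁻¹ • (0 : V4 ⧸ p) := by rw [hk']
        rw [inv_smul_smul] at h1
        rw [h1]
        change p.mapQ p _ _ 0 = 0
        exact map_zero _
      have hc2 : (insert (0 : V4 ⧸ p) (orbit L q)).ncard = (orbit L q).ncard + 1 :=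
        Set.ncard_insert_of_notMem h0 (Set.toFinite _)
      have hc3 : (insert (0 : V4 ⧸ p) (orbit L q)).ncard ≤ Nat.card (V4 ⧸ p) := by
        rw [← Set.ncard_univ]
        exact Set.ncard_le_ncard (Set.subset_univ _) (Set.toFinite _)
      omega
  intro g hg
  -- `g w = w + c v`
  have hstep : ∀ w : V4, ∃ c : ZMod 2,
      (g : Matrix (Fin 4) (Fin 4) (ZMod 2)).mulVec w = w + c • v := by
    intro w
    have h1 := htriv ⟨g, hg⟩ (Submodule.Quotient.mk w)
    rw [hact] at h1
    have h2 := (Submodule.Quotient.eq p).1 h1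
    obtain ⟨c, hc⟩ := Submodule.mem_span_singleton.1 h2
    refine ⟨c, ?_⟩
    rw [hc]
    abel
  have hsq : ∀ w : V4, ((g * g : G4) : Matrix (Fin 4) (Fin 4) (ZMod 2)).mulVec w = w := by
    intro w
    obtain ⟨c, hc⟩ := hstep w
    rw [Matrix.GeneralLinearGroup.coe_mul, ← Matrix.mulVec_mulVec, hc, Matrix.mulVec_add,
      Matrix.mulVec_smul, hfix g hg, hc, add_assoc, ← add_smul]
    have : c + c = 0 := CharTwo.add_self_eq_zero c
    rw [this, zero_smul, add_zero]
  apply Units.ext
  apply Matrix.mulVec_injective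
  funext w
  rw [hsq w]
  simp

theorem no_simple_1344 (L : Subgroup G4) [IsSimpleGroup L] (hL : Nat.card L = 1344) : False := by
  obtain ⟨v, hv, hfix⟩ := exists_fixed_vector L hL
  have hsq := sq_eq_one_of_fixed L hL v hv hfix
  have hinv : ∀ a : L, a⁻¹ = a := by
    intro a
    apply inv_eq_of_mul_eq_one_right
    exact Subtype.ext (hsq a.1 a.2)
  have hcomm : ∀ a b : L, a * b = b * a := by
    intro a b
    calc a * b = (a * b)⁻¹ := (hinv (a * b)).symm
      _ = b⁻¹ * a⁻¹ := mul_inv_rev a b
      _ = b * a := by rw [hinv a, hinv b]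
  have hnt : Nontrivial L := by
    rw [← Finite.one_lt_card_iff_nontrivial, hL]
    norm_num
  obtain ⟨a, ha⟩ := exists_ne (1 : L)
  have hnorm : (Subgroup.zpowers a).Normal := by
    refine ⟨fun x hx k => ?_⟩
    rw [hcomm k x, mul_inv_cancel_right]
    exact hx
  have hcz : Nat.card (Subgroup.zpowers a) ≤ 2 := by
    rw [Nat.card_zpowers]
    apply Nat.le_of_dvd (by norm_num)
    apply orderOf_dvd_of_pow_eq_one
    rw [pow_two]
    exact Subtype.ext (hsq a.1 a.2)
  rcases hnorm.eq_bot_or_eq_top with h | h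
  · apply ha
    have : a ∈ Subgroup.zpowers a := Subgroup.mem_zpowers a
    rw [h] at this
    exact Subgroup.mem_bot.1 this
  · rw [h, Subgroup.card_top, hL] at hcz
    norm_num at hcz

end Cfsg.Agent.Helper65.A8Sub
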