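import Mathlib
import Cfsg.Agent.S0989
import Cfsg.Agent.S0990
import Cfsg.Agent.Lib.Helper17.Burnside
import Cfsg.Agent.Lib.Helper65.A8Sub.Orbit

/-!
# Sylow 7-subgroups of simple subgroups of `A_8` (helper65, for S2553)
-/

set_option autoImplicit false

namespace Cfsg.Agent.Helper65.A8Sub

open Subgroup

/-- the alternating group of degree 8 inside `Γ` -/
abbrev A8 : Subgroup Γ := alternatingGroup (Fin 8)

theorem card_Γ : Nat.card Γ = 40320 := by
  rw [Nat.card_eq_fintype_card, Fintype.card_perm, Fintype.card_fin]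
  rfl

theorem card_A8 : Nat.card A8 = 20160 := by
  have h := two_mul_nat_card_alternatingGroup (α := Fin 8)
  rw [card_Γ] at h
  change 2 * Nat.card A8 = 40320 at h
  omega

/-- the normalizer in `A_8` of a subgroup of order 7 has order 21 -/
theorem card_normalizer_seven (R : Subgroup Γ) (hR : Nat.card R = 7) :
    Nat.card (normalizer (R : Set Γ) ⊓ A8 : Subgroup Γ) = 21 := by
  haveI : Fact (Nat.Prime 7) := ⟨by norm_num⟩
  have hRp : IsPGroup 7 R := IsPGroup.of_card (n := 1) (by rw [hR]; rfl)
  have hidx : ¬ 7 ∣ R.index := by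
    have h1 := R.card_mul_index
    rw [hR, card_Γ] at h1
    omega
  have hPR : ((hRp.toSylow hidx : Sylow 7 Γ) : Subgroup Γ) = R := IsPGroup.toSylow_coe hRp hidx
  have h1 := Cfsg.Agent.S0989.result (α := Fin 8) 7 (Or.inr (by simp)) (hRp.toSylow hidx)
  have h2 := Cfsg.Agent.S0990.result (α := Fin 8) (by simp) 7 (by norm_num) (hRp.toSylow hidx)
  rw [hPR] at h1 h2
  obtain ⟨hle, h2⟩ := h2
  rw [h1] at h2
  rw [← subgroupOf_normalizer_eq hle] at h2
  have h3 : Nat.card ((normalizer (R : Set Γ)).subgroupOf A8) =
      Nat.card (normalizer (R : Set Γ) ⊓ A8 : Subgroup Γ) := by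
    rw [← inf_subgroupOf_right]
    exact Nat.card_congr (subgroupOfEquivOfLe inf_le_right).toEquiv
  change 2 * Nat.card ((normalizer (R : Set Γ)).subgroupOf A8) = 7 * (7 - 1) at h2
  omega

/-- Sylow 7-analysis of a simple group embedded in `A_8` -/
theorem sylow_seven {S : Type*} [Group S] [Finite S] [IsSimpleGroup S] (j : S →* Γ)
    (hj : Function.Injective j) (hA : ∀ s, j s ∈ A8) (h7 : 7 ∣ Nat.card S) (hS : Nat.card S ≠ 7)
    [Fact (Nat.Prime 7)] (P : Sylow 7 S) :
    Nat.card (P : Subgroup S) = 7 ∧ Nat.card (normalizer ((P : Subgroup S) : Set S)) = 21 ∧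
      Nat.card S = 21 * Nat.card (Sylow 7 S) ∧ Nat.card (Sylow 7 S) % 7 = 1 := by
  -- `|S|` divides `20160`
  have hdvd : Nat.card S ∣ 20160 := by
    let j' : S →* A8 := j.codRestrict A8 hA
    have hj' : Function.Injective j' := by
      intro a b hab
      apply hj
      exact congrArg Subtype.val hab
    have := Subgroup.card_dvd_of_injective j' hj'
    rwa [card_A8] at this
  -- `|P| = 7`
  have hP7 : Nat.card (P : Subgroup S) = 7 := by
    obtain ⟨k, hk⟩ := (IsPGroup.iff_card).1 P.2
    have h1 : 7 ∣ Nat.card (P : Subgroup S) := P.dvd_card_of_dvd_card h7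
    have h2 : Nat.card (P : Subgroup S) ∣ 20160 := (Subgroup.card_subgroup_dvd_card _).trans hdvd
    rw [hk] at h1 h2 ⊢
    have hk1 : k ≠ 0 := by
      rintro rfl
      norm_num at h1
    have hk2 : k < 2 := by
      by_contra hcon
      push Not at hcon
      have : 7 ^ 2 ∣ 7 ^ k := pow_dvd_pow 7 hcon
      have := this.trans h2
      norm_num at this
    have : k = 1 := by omega
    rw [this]; rfl
  -- the image of `P`
  have hR : Nat.card ((P : Subgroup S).map j) = 7 := by
    exact (Nat.card_congr ((P : Subgroup S).equivMapOfInjective j hj).toEquiv).symm.trans hP7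
  have hN21 := card_normalizer_seven _ hR
  have hNle : (normalizer ((P : Subgroup S) : Set S)).map j ≤
      (normalizer (((P : Subgroup S).map j : Subgroup Γ) : Set Γ) ⊓ A8 : Subgroup Γ) := by
    apply le_inf
    · exact le_normalizer_map j
    · rintro _ ⟨x, _, rfl⟩
      exact hA x
  have hNdvd : Nat.card (normalizer ((P : Subgroup S) : Set S)) ∣ 21 := by
    have h1 := Subgroup.card_dvd_of_le hNle
    rw [hN21] at h1
    have h2 : Nat.card ((normalizer ((P : Subgroup S) : Set S)).map j) =
        Nat.card (normalizer ((P : Subgroup S) : Set S)) :=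
      (Nat.card_congr ((normalizer ((P : Subgroup S) : Set S)).equivMapOfInjective j hj).toEquiv).symm
    rwa [h2] at h1
  have h7N : 7 ∣ Nat.card (normalizer ((P : Subgroup S) : Set S)) := by
    have h1 := Subgroup.card_dvd_of_le (le_normalizer (H := (P : Subgroup S)))
    rwa [hP7] at h1
  have hNne : Nat.card (normalizer ((P : Subgroup S) : Set S)) ≠ 7 := by
    intro hN7
    have heq : (P : Subgroup S) = normalizer ((P : Subgroup S) : Set S) := by
      apply Subgroup.eq_of_le_of_card_ge le_normalizer
      rw [hN7, hP7]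
    apply Cfsg.Agent.Helper17.not_normalizer_le_centralizer P (by rw [hP7]; norm_num)
      (by rw [hP7]; exact fun h => hS h.symm)
    rw [← heq]
    -- `P` is abelian
    haveI : Fact (Nat.Prime 7) := ⟨by norm_num⟩
    haveI : IsCyclic (P : Subgroup S) := isCyclic_of_prime_card hP7
    intro x hx
    rw [mem_centralizer_iff]
    intro y hy
    letI := IsCyclic.commGroup (α := (P : Subgroup S))
    have := mul_comm (⟨y, hy⟩ : (P : Subgroup S)) ⟨x, hx⟩
    exact congrArg Subtype.val this
  have hN : Nat.card (normalizer ((P : Subgroup S) : Set S)) = 21 := by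
    have hle : Nat.card (normalizer ((P : Subgroup S) : Set S)) ≤ 21 := Nat.le_of_dvd (by norm_num) hNdvd
    obtain ⟨t, ht⟩ := h7N
    have : t = 1 ∨ t = 2 ∨ t = 3 := by
      have : 0 < Nat.card (normalizer ((P : Subgroup S) : Set S)) := Nat.card_pos
      omega
    rcases this with rfl | rfl | rfl
    · omega
    · rw [ht] at hNdvd; norm_num at hNdvd
    · omega
  refine ⟨hP7, hN, ?_, ?_⟩
  · have h1 := (normalizer ((P : Subgroup S) : Set S)).card_mul_index
    have h2 : Nat.card (Sylow 7 S) = (normalizer ((P : Subgroup S) : Set S)).index :=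
      Sylow.card_eq_index_normalizer P
    rw [hN, ← h2] at h1
    exact h1.symm
  · have := card_sylow_modEq_one 7 S
    exact this

/-- Frattini: a simple subgroup of `A_8` of order divisible by 7 equals every subgroup of `A_8`
that normalizes it -/
theorem eq_of_normal_of_seven (K L : Subgroup Γ) (hLK : L ≤ K) (hKA : K ≤ A8)
    (hnorm : ∀ k ∈ K, ∀ l ∈ L, k * l * k⁻¹ ∈ L) [IsSimpleGroup L] (hL7 : 7 ∣ Nat.card L)
    (hLne : Nat.card L ≠ 7) : K = L := by
  haveI : Fact (Nat.Prime 7) := ⟨by norm_num⟩
  have hKn : K ≤ normalizer (L : Set Γ) := by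
    intro k hk
    rw [mem_normalizer_iff]
    intro l
    constructor
    · exact hnorm k hk l
    · intro h
      have := hnorm k⁻¹ (K.inv_mem hk) _ h
      simpa [mul_assoc] using this
  haveI hNn : (L.subgroupOf K).Normal := (normal_subgroupOf_iff_le_normalizer hLK).2 hKn
  let e : (L.subgroupOf K) ≃* L := subgroupOfEquivOfLe hLK
  haveI : IsSimpleGroup (L.subgroupOf K) := e.isSimpleGroup
  have hcard : Nat.card (L.subgroupOf K) = Nat.card L := Nat.card_congr e.toEquiv
  let j : (L.subgroupOf K) →* Γ := K.subtype.comp (L.subgroupOf K).subtype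
  have hj : Function.Injective j := by
    intro a b hab
    apply Subtype.ext
    apply Subtype.ext
    exact hab
  have hjA : ∀ s, j s ∈ A8 := fun s => hKA s.1.2
  let P : Sylow 7 (L.subgroupOf K) := default
  obtain ⟨hP7, hN21, -, -⟩ := sylow_seven j hj hjA (by rw [hcard]; exact hL7) (by rw [hcard]; exact hLne) P
  have hfr := Sylow.normalizer_sup_eq_top P
  -- the normalizer in `K` of the image of `P` has order dividing 21
  set M : Subgroup K := normalizer (((P : Subgroup (L.subgroupOf K)).map (L.subgroupOf K).subtype : Subgroup K) : Set K) with hM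
  have hR : Nat.card ((((P : Subgroup (L.subgroupOf K)).map (L.subgroupOf K).subtype).map K.subtype : Subgroup Γ)) = 7 := by
    have e1 := ((P : Subgroup (L.subgroupOf K)).equivMapOfInjective (L.subgroupOf K).subtype
      (Subgroup.subtype_injective _))
    have e2 := (((P : Subgroup (L.subgroupOf K)).map (L.subgroupOf K).subtype).equivMapOfInjective K.subtype
      (Subgroup.subtype_injective _))
    exact (Nat.card_congr (e1.trans e2).toEquiv).symm.trans hP7
  have hMle : M.map K.subtype ≤ (normalizer ((((P : Subgroup (L.subgroupOf K)).map (L.subgroupOf K).subtype).map K.subtype : Subgroup Γ) : Set Γ) ⊓ A8 : Subgroup Γ) := by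
    apply le_inf
    · exact le_normalizer_map K.subtype
    · rintro _ ⟨x, _, rfl⟩
      exact hKA x.2
  have hMcard : Nat.card M ≤ 21 := by
    have h1 := Subgroup.card_dvd_of_le hMle
    rw [card_normalizer_seven _ hR] at h1
    have h2 : Nat.card (M.map K.subtype) = Nat.card M :=
      (Nat.card_congr (M.equivMapOfInjective K.subtype (Subgroup.subtype_injective _)).toEquiv).symm
    rw [h2] at h1
    exact Nat.le_of_dvd (by norm_num) h1
  have hsub : (normalizer ((P : Subgroup (L.subgroupOf K)) : Set (L.subgroupOf K))).map (L.subgroupOf K).subtype ≤ M :=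
    le_normalizer_map _
  have hsubcard : Nat.card ((normalizer ((P : Subgroup (L.subgroupOf K)) : Set (L.subgroupOf K))).map (L.subgroupOf K).subtype) = 21 := by
    rw [← hN21]
    exact (Nat.card_congr ((normalizer ((P : Subgroup (L.subgroupOf K)) : Set (L.subgroupOf K))).equivMapOfInjective
      (L.subgroupOf K).subtype (Subgroup.subtype_injective _)).toEquiv).symm
  have hMeq : (normalizer ((P : Subgroup (L.subgroupOf K)) : Set (L.subgroupOf K))).map (L.subgroupOf K).subtype = M := by
    apply Subgroup.eq_of_le_of_card_ge hsub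
    rw [hsubcard]; exact hMcard
  have hMN : M ≤ L.subgroupOf K := by
    rw [← hMeq]
    exact map_subtype_le _
  rw [sup_eq_right.2 hMN] at hfr
  apply le_antisymm _ hLK
  exact subgroupOf_eq_top.1 hfr

end Cfsg.Agent.Helper65.A8Sub
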