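import Mathlib
import Cfsg.Agent.Lib.Helper65.A8Sub.Act
import Cfsg.Agent.Lib.Helper65.A8Sub.Syl7
import Cfsg.Agent.Lib.Helper65.A8Sub.GL1344
import Cfsg.Agent.S0496
import Cfsg.Agent.S1016

/-!
# Possible orders of the simple normal subgroup (helper65, for S2553)
-/

set_option autoImplicit false

namespace Cfsg.Agent.Helper65.A8Sub

open MulAction Subgroup

theorem smul_eq_apply (P : Subgroup Γ) (τ : P) (a : Fin 8) : τ • a = τ.1 a := rfl

/-- fixed points of a `p`-subgroup of `Sym(8)` -/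
theorem card_fixedPoints_modEq (p : ℕ) [Fact p.Prime] (P : Subgroup Γ) (hP : IsPGroup p P) :
    8 ≡ (fixedPoints P (Fin 8)).ncard [MOD p] := by
  have := hP.card_modEq_card_fixedPoints (Fin 8)
  rw [Nat.card_coe_set_eq] at this
  simpa using this

theorem eq_bot_of_fixedPoints (P : Subgroup Γ) (h : (fixedPoints P (Fin 8)).ncard = 8) :
    P = ⊥ := by
  have huniv : fixedPoints P (Fin 8) = Set.univ := by
    apply Set.eq_of_subset_of_ncard_le (Set.subset_univ _) _ (Set.toFinite _)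
    rw [Set.ncard_univ, h]
    simp
  rw [eq_bot_iff]
  intro σ hσ
  rw [Subgroup.mem_bot]
  apply Equiv.ext
  intro a
  have ha : a ∈ fixedPoints P (Fin 8) := by rw [huniv]; trivial
  exact ha ⟨σ, hσ⟩

theorem card_inf_stabilizer (A : Subgroup Γ) (y : Fin 8) :
    Nat.card (A ⊓ stabilizer Γ y : Subgroup Γ) * (orbit A y).ncard = Nat.card A := by
  have h1 : (stabilizer A y).map A.subtype = A ⊓ stabilizer Γ y := by
    ext σ
    constructor
    · rintro ⟨⟨τ, hτ⟩, hs, rfl⟩
      exact ⟨hτ, hs⟩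
    · rintro ⟨hA, hs⟩
      exact ⟨⟨σ, hA⟩, hs, rfl⟩
  rw [← h1, Subgroup.card_map_of_injective (Subgroup.subtype_injective _),
    ← MulAction.index_stabilizer, Subgroup.card_mul_index]

/-- no subgroup of order 45 of `Sym(8)` fixes a point -/
theorem no45 (Q : Subgroup Γ) (hQ : Nat.card Q = 45) (x : Fin 8) (hx : ∀ σ ∈ Q, σ x = x) :
    False := by
  classical
  haveI : Fact (Nat.Prime 5) := ⟨by norm_num⟩
  obtain P : Sylow 5 Q := default
  have hP5 : Nat.card (P : Subgroup Q) = 5 := by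
    obtain ⟨k, hk⟩ := (IsPGroup.iff_card).1 P.2
    have h1 : Nat.card (P : Subgroup Q) ∣ 45 := hQ ▸ Subgroup.card_subgroup_dvd_card _
    have h2 : 5 ∣ Nat.card (P : Subgroup Q) := P.dvd_card_of_dvd_card (by rw [hQ]; norm_num)
    rw [hk] at h1 h2 ⊢
    have hk1 : k ≠ 0 := by
      rintro rfl
      norm_num at h2
    have hk2 : k < 2 := by
      by_contra hcon
      push Not at hcon
      have := (pow_dvd_pow 5 hcon).trans h1
      norm_num at this
    have : k = 1 := by omega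
    rw [this]; rfl
  have hidx : (P : Subgroup Q).index = 9 := by
    have := (P : Subgroup Q).card_mul_index
    rw [hP5, hQ] at this
    omega
  have hn5 : Nat.card (Sylow 5 Q) = 1 := by
    have h1 := P.card_dvd_index
    rw [hidx] at h1
    have h2 : Nat.card (Sylow 5 Q) % 5 = 1 := card_sylow_modEq_one 5 Q
    have h3 : Nat.card (Sylow 5 Q) ≤ 9 := Nat.le_of_dvd (by norm_num) h1
    generalize Nat.card (Sylow 5 Q) = m at h1 h2 h3 ⊢
    interval_cases m <;> first | rfl | omega | (norm_num at h1)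
  haveI : Subsingleton (Sylow 5 Q) := (Nat.card_eq_one_iff_unique.1 hn5).1
  have hPn : (P : Subgroup Q).Normal := Sylow.normal_of_subsingleton P
  set P' : Subgroup Γ := (P : Subgroup Q).map Q.subtype with hP'
  have hP'5 : Nat.card P' = 5 := by
    rw [hP', Subgroup.card_map_of_injective (Subgroup.subtype_injective _), hP5]
  have hP'le : P' ≤ Q := by
    rintro _ ⟨y, _, rfl⟩
    exact y.2
  have hP'norm : ∀ σ ∈ Q, ∀ τ ∈ P', σ⁻¹ * τ * σ ∈ P' := by
    rintro σ hσ _ ⟨τ, hτ, rfl⟩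
    have := hPn.conj_mem τ hτ (⟨σ, hσ⟩ : Q)⁻¹
    refine ⟨_, this, ?_⟩
    simp
  have hP'p : IsPGroup 5 P' := IsPGroup.of_card (n := 1) (by rw [hP'5]; rfl)
  set F : Set (Fin 8) := fixedPoints P' (Fin 8) with hF
  have hF3 : F.ncard = 3 := by
    have h1 : 8 ≡ F.ncard [MOD 5] := card_fixedPoints_modEq 5 P' hP'p
    have h2 : F.ncard ≤ 8 := by
      have := Set.ncard_le_ncard (Set.subset_univ F) (Set.toFinite _)
      rw [Set.ncard_univ] at this
      simpa using this
    have h3 : F.ncard ≠ 8 := by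
      intro h8
      have := eq_bot_of_fixedPoints P' h8
      rw [this, Subgroup.card_bot] at hP'5
      omega
    have h1' : 8 % 5 = F.ncard % 5 := h1
    omega
  have hxF : x ∈ F := by
    intro τ
    exact hx τ.1 (hP'le τ.2)
  have hQF : ∀ σ ∈ Q, ∀ a ∈ F, σ a ∈ F := by
    intro σ hσ a ha τ
    have h1 : (σ⁻¹ * τ.1 * σ) a = a := ha ⟨_, hP'norm σ hσ τ.1 τ.2⟩
    rw [smul_eq_apply]
    have h2 : σ ((σ⁻¹ * τ.1 * σ) a) = τ.1 (σ a) := by
      simp [Equiv.Perm.mul_apply]
    rw [← h2, h1]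
  have hF2 : (F \ {x}).ncard = 2 := by
    rw [Set.ncard_sdiff_singleton_of_mem hxF, hF3]
  obtain ⟨u, w, huw, hFuw⟩ := Set.ncard_eq_two.1 hF2
  have huF : u ∈ F \ {x} := by rw [hFuw]; simp
  have hwF : w ∈ F \ {x} := by rw [hFuw]; simp
  -- `σ²` fixes `F` pointwise
  have hsq : ∀ σ ∈ Q, ∀ a ∈ F, σ (σ a) = a := by
    intro σ hσ a ha
    have hmem : ∀ b ∈ F \ {x}, σ b = u ∨ σ b = w := by
      intro b hb
      have h1 : σ b ∈ F \ {x} := by
        refine ⟨hQF σ hσ b hb.1, ?_⟩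
        intro h2
        apply hb.2
        rw [Set.mem_singleton_iff] at h2 ⊢
        apply σ.injective
        rw [h2, hx σ hσ]
      rw [hFuw] at h1
      simpa using h1
    by_cases hax : a = x
    · rw [hax, hx σ hσ, hx σ hσ]
    · have ha' : a ∈ F \ {x} := ⟨ha, hax⟩
      have ha'' : a = u ∨ a = w := by
        rw [hFuw] at ha'
        simpa using ha'
      rcases hmem u huF with h1 | h1 <;> rcases hmem w hwF with h2 | h2
      · exact absurd (σ.injective (h1.trans h2.symm)) huw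
      · rcases ha'' with rfl | rfl
        · rw [h1, h1]
        · rw [h2, h2]
      · rcases ha'' with rfl | rfl
        · rw [h1, h2]
        · rw [h2, h1]
      · exact absurd (σ.injective (h1.trans h2.symm)) huw
  -- `Q` fixes `F` pointwise
  have hfixF : ∀ σ ∈ Q, ∀ a ∈ F, σ a = a := by
    intro σ hσ a ha
    have h45 : σ ^ 45 = 1 := by
      have := pow_card_eq_one' (G := Q) (x := ⟨σ, hσ⟩)
      rw [hQ] at this
      exact congrArg Subtype.val this
    have hs2 : (σ ^ 2) a = a := by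
      rw [pow_two, Equiv.Perm.mul_apply]
      exact hsq σ hσ a ha
    have h2 : ∀ k : ℕ, ((σ ^ 2) ^ k) a = a := by
      intro k
      induction k with
      | zero => simp
      | succ k ih =>
        rw [pow_succ, Equiv.Perm.mul_apply, hs2, ih]
    have h46 : σ = (σ ^ 2) ^ 23 := by
      rw [← pow_mul]
      have : σ ^ (2 * 23) = σ ^ 45 * σ := by
        rw [← pow_succ]
      rw [this, h45, one_mul]
    calc σ a = ((σ ^ 2) ^ 23) a := by rw [← h46]
      _ = a := h2 23
  have hQle : Q ≤ fixOut Fᶜ := by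
    intro σ hσ
    rw [mem_fixOut]
    intro a ha
    apply hfixF σ hσ a
    simpa using ha
  have hdvd := Subgroup.card_dvd_of_le hQle
  rw [card_fixOut, hQ] at hdvd
  have hc : Nat.card (Fᶜ : Set (Fin 8)) = 5 := by
    rw [Nat.card_coe_set_eq, Set.ncard_compl, hF3]
    simp
  rw [hc] at hdvd
  norm_num [Nat.factorial] at hdvd

/-- a subgroup of `Sym(8)` transitive on the 8 points has order neither 360 nor 2520 -/
theorem card_ne_of_transitive (L : Subgroup Γ) (htrans : ∀ a b : Fin 8, ∃ σ ∈ L, σ a = b) :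
    Nat.card L ≠ 360 ∧ Nat.card L ≠ 2520 := by
  classical
  have horb : ∀ a : Fin 8, orbit L a = Set.univ := by
    intro a
    ext b
    simp only [Set.mem_univ, iff_true]
    obtain ⟨σ, hσ, rfl⟩ := htrans a b
    exact ⟨⟨σ, hσ⟩, rfl⟩
  have hc0 := card_inf_stabilizer L 0
  rw [horb, Set.ncard_univ] at hc0
  have h8 : Nat.card (Fin 8) = 8 := by simp
  rw [h8] at hc0
  constructor
  · intro hn
    rw [hn] at hc0
    have : Nat.card (L ⊓ stabilizer Γ (0 : Fin 8) : Subgroup Γ) = 45 := by omega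
    exact no45 _ this 0 (fun σ hσ => hσ.2)
  · intro hn
    rw [hn] at hc0
    set Lx : Subgroup Γ := L ⊓ stabilizer Γ (0 : Fin 8) with hLx
    have hLx315 : Nat.card Lx = 315 := by omega
    haveI : Fact (Nat.Prime 7) := ⟨by norm_num⟩
    obtain ⟨τ, hτ⟩ := exists_prime_orderOf_dvd_card' (G := Lx) 7 (by rw [hLx315]; norm_num)
    set t : Γ := τ.1 with ht
    have hto : orderOf t = 7 := by rw [ht, Subgroup.orderOf_coe, hτ]
    set P : Subgroup Γ := zpowers t with hP
    have hP7 : Nat.card P = 7 := by rw [hP, Nat.card_zpowers, hto]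
    have hPle : P ≤ Lx := by
      rw [hP, zpowers_le]
      exact τ.2
    have hPp : IsPGroup 7 P := IsPGroup.of_card (n := 1) (by rw [hP7]; rfl)
    have hF1 : (fixedPoints P (Fin 8)).ncard = 1 := by
      have h1 := card_fixedPoints_modEq 7 P hPp
      have h2 : (fixedPoints P (Fin 8)).ncard ≤ 8 := by
        have := Set.ncard_le_ncard (Set.subset_univ (fixedPoints P (Fin 8))) (Set.toFinite _)
        rw [Set.ncard_univ] at this
        simpa using this
      have h3 : (fixedPoints P (Fin 8)).ncard ≠ 8 := by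
        intro h8'
        have := eq_bot_of_fixedPoints P h8'
        rw [this, Subgroup.card_bot] at hP7
        omega
      have h1' : 8 % 7 = (fixedPoints P (Fin 8)).ncard % 7 := h1
      omega
    have h0F : (0 : Fin 8) ∈ fixedPoints P (Fin 8) := by
      intro ρ
      exact (hPle ρ.2).2
    obtain ⟨z, hz⟩ := Set.ncard_eq_one.1 hF1
    have hz0 : z = 0 := by
      rw [hz] at h0F
      exact (Set.mem_singleton_iff.1 h0F).symm
    have h1F : (1 : Fin 8) ∉ fixedPoints P (Fin 8) := by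
      rw [hz, hz0]
      simp
    -- the orbit of `1` under `P` has 7 elements
    have horbP : (orbit P (1 : Fin 8)).ncard = 7 := by
      have hd := orbit_ncard_dvd (S := P) (1 : Fin 8)
      rw [hP7] at hd
      have hne1 : (orbit P (1 : Fin 8)).ncard ≠ 1 := by
        intro h1
        obtain ⟨c, hc⟩ := Set.ncard_eq_one.1 h1
        apply h1F
        intro ρ
        have hself : (1 : Fin 8) ∈ orbit P (1 : Fin 8) := mem_orbit_self _
        have hρ : ρ • (1 : Fin 8) ∈ orbit P (1 : Fin 8) := mem_orbit _ ρ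
        rw [hc] at hself hρ
        rw [Set.mem_singleton_iff] at hself hρ
        rw [hρ, hself]
      have : (orbit P (1 : Fin 8)).ncard = 1 ∨ (orbit P (1 : Fin 8)).ncard = 7 :=
        (Nat.dvd_prime (by norm_num)).1 hd
      omega
    have hsub : orbit P (1 : Fin 8) ⊆ orbit Lx (1 : Fin 8) := by
      rintro _ ⟨ρ, rfl⟩
      exact ⟨⟨ρ.1, hPle ρ.2⟩, rfl⟩
    have hge : 7 ≤ (orbit Lx (1 : Fin 8)).ncard :=
      le_trans (le_of_eq horbP.symm) (Set.ncard_le_ncard hsub (Set.toFinite _))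
    have hsub2 : orbit Lx (1 : Fin 8) ⊆ ({0} : Set (Fin 8))ᶜ := by
      rintro _ ⟨σ, rfl⟩
      simp only [Set.mem_compl_iff, Set.mem_singleton_iff]
      intro h0
      have h1 : σ.1 (1 : Fin 8) = σ.1 (0 : Fin 8) := by
        have : σ.1 (0 : Fin 8) = 0 := σ.2.2
        rw [this]
        exact h0
      have := σ.1.injective h1
      exact absurd this (by decide)
    have hle : (orbit Lx (1 : Fin 8)).ncard ≤ 7 := by
      have := Set.ncard_le_ncard hsub2 (Set.toFinite _)
      rw [Set.ncard_compl] at this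
      simpa using this
    have hc1 := card_inf_stabilizer Lx 1
    have h7 : (orbit Lx (1 : Fin 8)).ncard = 7 := le_antisymm hle hge
    rw [h7, hLx315] at hc1
    have h45 : Nat.card (Lx ⊓ stabilizer Γ (1 : Fin 8) : Subgroup Γ) = 45 := by omega
    exact no45 _ h45 0 (fun σ hσ => hσ.1.2)

/-- proper subgroups of `A_8` have index at least 8 -/
theorem card_le_or_eq (L : Subgroup Γ) (hLA : L ≤ A8) :
    Nat.card L ≤ 2520 ∨ Nat.card L = 20160 := by
  haveI : IsSimpleGroup A8 := alternatingGroup.isSimpleGroup (by simp)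
  have hc : Nat.card (L.subgroupOf A8) = Nat.card L :=
    Nat.card_congr (subgroupOfEquivOfLe hLA).toEquiv
  by_cases htop : L.subgroupOf A8 = ⊤
  · right
    rw [← hc, htop, Subgroup.card_top, card_A8]
  · left
    have h1 := Cfsg.Agent.Helper5.card_le_factorial_index _ htop
    rw [card_A8] at h1
    have h2 := (L.subgroupOf A8).card_mul_index
    rw [hc, card_A8] at h2
    by_contra hcon
    push Not at hcon
    have h3 : (L.subgroupOf A8).index ≤ 7 := by nlinarith
    have h4 := Nat.factorial_le h3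
    have h5 : (7).factorial = 5040 := rfl
    omega

/-- the arithmetic -/
theorem orders_arith (n d : ℕ) (hd5 : 5 ≤ d) (hd8 : d ≤ 8) (h1 : n ∣ d.factorial) (h2 : d ∣ n)
    (h3 : n ∣ 20160)
    (h4 : n ≤ 1092 → n = 60 ∨ n = 168 ∨ n = 360 ∨ n = 504 ∨ n = 660 ∨ n = 1092)
    (h5 : n ≠ 1440) (h6 : 7 ∣ n → n % 21 = 0 ∧ (n / 21) % 7 = 1)
    (h7 : n ≤ 2520 ∨ n = 20160) (h8 : d = 8 → n ≠ 360) (h9 : d = 8 → n ≠ 2520)
    (h10 : n ≠ 1344) :
    (d = 5 ∧ n = 60) ∨ (d = 6 ∧ n = 60) ∨ (d = 6 ∧ n = 360) ∨ (d = 7 ∧ n = 168) ∨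
      (d = 8 ∧ n = 168) ∨ (d = 7 ∧ n = 2520) ∨ (d = 8 ∧ n = 20160) := by
  have key : ∀ d ∈ Finset.Icc 5 8, ∀ n ∈ Nat.divisors 20160,
      n ∣ d.factorial → d ∣ n →
      (n ≤ 1092 → n = 60 ∨ n = 168 ∨ n = 360 ∨ n = 504 ∨ n = 660 ∨ n = 1092) →
      n ≠ 1440 → (7 ∣ n → n % 21 = 0 ∧ (n / 21) % 7 = 1) →
      (n ≤ 2520 ∨ n = 20160) → (d = 8 → n ≠ 360) → (d = 8 → n ≠ 2520) → n ≠ 1344 →
      (d = 5 ∧ n = 60) ∨ (d = 6 ∧ n = 60) ∨ (d = 6 ∧ n = 360) ∨ (d = 7 ∧ n = 168) ∨
        (d = 8 ∧ n = 168) ∨ (d = 7 ∧ n = 2520) ∨ (d = 8 ∧ n = 20160) := by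
    decide +kernel
  exact key d (Finset.mem_Icc.2 ⟨hd5, hd8⟩) n (Nat.mem_divisors.2 ⟨h3, by norm_num⟩)
    h1 h2 h4 h5 h6 h7 h8 h9 h10

theorem Setup.orders {K L : Subgroup Γ} {D : Set (Fin 8)} (h : Setup K L D) (hKA : K ≤ A8)
    [IsSimpleGroup L] (hnc : ¬ IsMulCommutative L) (h1344 : Nat.card L ≠ 1344) :
    (Nat.card D = 5 ∧ Nat.card L = 60) ∨ (Nat.card D = 6 ∧ Nat.card L = 60) ∨
      (Nat.card D = 6 ∧ Nat.card L = 360) ∨ (Nat.card D = 7 ∧ Nat.card L = 168) ∨
      (Nat.card D = 8 ∧ Nat.card L = 168) ∨ (Nat.card D = 7 ∧ Nat.card L = 2520) ∨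
      (Nat.card D = 8 ∧ Nat.card L = 20160) := by
  classical
  have hLA : L ≤ A8 := h.le.trans hKA
  have hd8 : Nat.card D ≤ 8 := by
    have := Nat.card_le_card_of_injective (Subtype.val : D → Fin 8) Subtype.val_injective
    simpa using this
  have h3 : Nat.card L ∣ 20160 := by
    have := Subgroup.card_dvd_of_le hLA
    rwa [card_A8] at this
  have h4 : Nat.card L ≤ 1092 → Nat.card L = 60 ∨ Nat.card L = 168 ∨ Nat.card L = 360 ∨
      Nat.card L = 504 ∨ Nat.card L = 660 ∨ Nat.card L = 1092 :=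
    fun hle => Cfsg.Agent.S0496.result hnc hle
  have h5 : Nat.card L ≠ 1440 := Cfsg.Agent.S1016.result
  have h6 : 7 ∣ Nat.card L → Nat.card L % 21 = 0 ∧ (Nat.card L / 21) % 7 = 1 := by
    intro h7
    haveI : Fact (Nat.Prime 7) := ⟨by norm_num⟩
    have hne7 : Nat.card L ≠ 7 := by
      intro h
      have := h4 (by omega)
      omega
    obtain ⟨-, -, hc, hm⟩ := sylow_seven L.subtype (Subgroup.subtype_injective _)
      (fun s => hLA s.2) h7 hne7 (default : Sylow 7 L)
    rw [hc]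
    constructor
    · simp
    · rw [Nat.mul_div_cancel_left _ (by norm_num : 0 < 21)]
      exact hm
  have h7 := card_le_or_eq L hLA
  have htr : Nat.card D = 8 → ∀ a b : Fin 8, ∃ σ ∈ L, σ a = b := by
    intro hd a b
    have hD : D = Set.univ := by
      apply Set.eq_of_subset_of_ncard_le (Set.subset_univ _) _ (Set.toFinite _)
      rw [Set.ncard_univ, ← Nat.card_coe_set_eq, hd]
      simp
    exact h.trans a (by rw [hD]; trivial) b (by rw [hD]; trivial)
  have h8 : Nat.card D = 8 → Nat.card L ≠ 360 := fun hd => (card_ne_of_transitive L (htr hd)).1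
  have h9 : Nat.card D = 8 → Nat.card L ≠ 2520 := fun hd => (card_ne_of_transitive L (htr hd)).2
  exact orders_arith (Nat.card L) (Nat.card D) h.big hd8 h.card_L_dvd h.card_D_dvd h3 h4 h5 h6 h7
    h8 h9 h1344

end Cfsg.Agent.Helper65.A8Sub
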