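import Mathlib
import Cfsg.Agent.Lib.Helper65.A8Sub.Orders
import Cfsg.Agent.S0494
import Cfsg.Agent.S0497
import Cfsg.Agent.S2119
import Cfsg.Agent.Lib.Helper17.Uniq168D
import Cfsg.Agent.Lib.Helper21.D8Cent2

/-!
# Identification of `K` (helper65, for S2553)
-/

set_option autoImplicit false

namespace Cfsg.Agent.Helper65.A8Sub

open MulAction Subgroup

/-- over `ZMod 2` the special linear group is the general linear group -/
noncomputable def slEquivGL (n : Type*) [Fintype n] [DecidableEq n] :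
    Matrix.SpecialLinearGroup n (ZMod 2) ≃* Matrix.GeneralLinearGroup n (ZMod 2) :=
  MulEquiv.ofBijective Matrix.SpecialLinearGroup.toGL
    ⟨Matrix.SpecialLinearGroup.toGL_injective, fun g => by
      have hdet : Matrix.det (g : Matrix n n (ZMod 2)) = 1 := by
        have h1 : Matrix.GeneralLinearGroup.det g = 1 := Subsingleton.elim _ _
        have h2 := congrArg Units.val h1
        simpa using h2
      exact ⟨⟨(g : Matrix n n (ZMod 2)), hdet⟩, Units.ext rfl⟩⟩

theorem card_GL3 : Nat.card (Matrix.GeneralLinearGroup (Fin 3) (ZMod 2)) = 168 := by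
  rw [Matrix.card_GL_field]
  simp [Fin.prod_univ_three, ZMod.card]

theorem isSimpleGroup_GL3 : IsSimpleGroup (Matrix.GeneralLinearGroup (Fin 3) (ZMod 2)) := by
  haveI := Cfsg.Agent.Helper21.D8Cent.isSimpleGroup_SL3
  exact (slEquivGL (Fin 3)).symm.isSimpleGroup

variable {K L : Subgroup Γ} {D : Set (Fin 8)}

theorem card_perm_fin5 : Nat.card (Equiv.Perm (Fin 5)) = 120 := by
  rw [Nat.card_eq_fintype_card, Fintype.card_perm, Fintype.card_fin]
  rfl

theorem card_eq_or_of_dvd (a m : ℕ) (ha : 0 < a) (h1 : a ∣ m) (h2 : m ∣ 2 * a) :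
    m = a ∨ m = 2 * a := by
  obtain ⟨t, rfl⟩ := h1
  have h3 : t ∣ 2 := by
    have : a * t ∣ a * 2 := by rwa [mul_comm a 2]
    exact (Nat.mul_dvd_mul_iff_left ha).1 this
  have h4 : t = 1 ∨ t = 2 := (Nat.dvd_prime Nat.prime_two).1 h3
  rcases h4 with rfl | rfl
  · left; ring
  · right; ring

/-- the case `|L| = 60` -/
theorem Setup.classify60 (h : Setup K L D) [IsSimpleGroup L] (hn : Nat.card L = 60) :
    Nonempty (K ≃* alternatingGroup (Fin 5)) ∨ Nonempty (K ≃* Equiv.Perm (Fin 5)) := by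
  classical
  have hKn : K ≤ normalizer (L : Set Γ) := by
    intro k hk
    rw [mem_normalizer_iff]
    intro l
    constructor
    · exact h.norm k hk l
    · intro h'
      have := h.norm k⁻¹ (K.inv_mem hk) _ h'
      simpa [mul_assoc] using this
  haveI hNn : (L.subgroupOf K).Normal := (normal_subgroupOf_iff_le_normalizer h.le).2 hKn
  let e : (L.subgroupOf K) ≃* L := subgroupOfEquivOfLe h.le
  haveI : IsSimpleGroup (L.subgroupOf K) := e.isSimpleGroup
  have hcard : Nat.card (L.subgroupOf K) = 60 := (Nat.card_congr e.toEquiv).trans hn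
  obtain ⟨e0⟩ := Cfsg.Agent.S0494.result hcard
  let c : K →* MulAut (L.subgroupOf K) := MulAut.conjNormal
  have hc : Function.Injective c := by
    rw [injective_iff_map_eq_one]
    intro k hk
    apply Subtype.ext
    apply h.cent k.1 k.2
    intro l hl
    have h1 : c k ⟨⟨l, h.le hl⟩, hl⟩ = ⟨⟨l, h.le hl⟩, hl⟩ := by rw [hk]; rfl
    have h2 := congrArg (fun z : L.subgroupOf K => ((z : K) : Γ)) h1
    simp only [c, MulAut.conjNormal_apply, Subgroup.coe_mul, Subgroup.coe_inv] at h2
    calc k.1 * l = k.1 * l * k.1⁻¹ * k.1 := by group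
      _ = l * k.1 := by rw [h2]
  let e1 : Equiv.Perm (Fin 5) ≃* MulAut (alternatingGroup (Fin 5)) :=
    MulEquiv.ofBijective _ (Cfsg.Agent.S2119.result 5 (by norm_num) (by norm_num))
  let ψ : K →* Equiv.Perm (Fin 5) :=
    e1.symm.toMonoidHom.comp ((MulAut.congr e0).toMonoidHom.comp c)
  have hψ : Function.Injective ψ := by
    intro a b hab
    apply hc
    apply (MulAut.congr e0).injective
    apply e1.symm.injective
    exact hab
  have hd1 : Nat.card K ∣ 120 := by
    have := Subgroup.card_dvd_of_injective ψ hψ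
    rwa [card_perm_fin5] at this
  have hd2 : 60 ∣ Nat.card K := by
    have := Subgroup.card_dvd_of_le h.le
    rwa [hn] at this
  rcases card_eq_or_of_dvd 60 (Nat.card K) (by norm_num) hd2 hd1 with hK | hK
  · left
    have heq : L = K := Subgroup.eq_of_le_of_card_ge h.le (by rw [hn, hK])
    obtain ⟨e2⟩ := Cfsg.Agent.S0494.result hn
    exact ⟨(MulEquiv.subgroupCongr heq.symm).trans e2⟩
  · right
    have hbij : Function.Bijective ψ := by
      rw [Nat.bijective_iff_injective_and_card]
      refine ⟨hψ, ?_⟩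
      rw [hK, card_perm_fin5]
    exact ⟨MulEquiv.ofBijective ψ hbij⟩

/-- the case `|D| = 6`, `|L| = 360` -/
theorem Setup.classify360 (h : Setup K L D) [IsSimpleGroup L] (hd : Nat.card D = 6)
    (hn : Nat.card L = 360) :
    Nonempty (K ≃* alternatingGroup (Fin 6)) ∨ Nonempty (K ≃* Equiv.Perm (Fin 6)) := by
  classical
  have hd1 : Nat.card K ∣ 720 := by
    have := h.card_dvd
    rwa [hd] at this
  have hd2 : 360 ∣ Nat.card K := by
    have := Subgroup.card_dvd_of_le h.le
    rwa [hn] at this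
  rcases card_eq_or_of_dvd 360 (Nat.card K) (by norm_num) hd2 hd1 with hK | hK
  · left
    have heq : L = K := Subgroup.eq_of_le_of_card_ge h.le (by rw [hn, hK])
    obtain ⟨e2⟩ := Cfsg.Agent.S0497.result hn
    exact ⟨(MulEquiv.subgroupCongr heq.symm).trans e2⟩
  · right
    have hcp : Nat.card (Equiv.Perm (Subtype (fun a => a ∈ D))) = 720 := by
      rw [Nat.card_perm]
      have : Nat.card (Subtype (fun a => a ∈ D)) = 6 := hd
      rw [this]
      rfl
    have hbij : Function.Bijective h.resHom := by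
      rw [Nat.bijective_iff_injective_and_card]
      exact ⟨h.resHom_injective, by rw [hK, hcp]⟩
    have e3 : Subtype (fun a => a ∈ D) ≃ Fin 6 := Finite.equivFinOfCardEq hd
    exact ⟨(MulEquiv.ofBijective h.resHom hbij).trans e3.permCongrHom⟩

/-- the cases `|L| = 168` -/
theorem Setup.classify168 (h : Setup K L D) (hKA : K ≤ A8) [IsSimpleGroup L]
    (hn : Nat.card L = 168) :
    Nonempty (K ≃* Matrix.GeneralLinearGroup (Fin 3) (ZMod 2)) := by
  have heq : K = L := eq_of_normal_of_seven K L h.le hKA h.norm (by rw [hn]; norm_num)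
    (by rw [hn]; norm_num)
  haveI := isSimpleGroup_GL3
  obtain ⟨e2⟩ := Cfsg.Agent.Helper17.U168.iso_of_simple_168 hn card_GL3
  exact ⟨(MulEquiv.subgroupCongr heq).trans e2⟩

/-- the case `|D| = 7`, `|L| = 2520` -/
theorem Setup.classify2520 (h : Setup K L D) (hKA : K ≤ A8) [IsSimpleGroup L]
    (hd : Nat.card D = 7) (hn : Nat.card L = 2520) :
    Nonempty (K ≃* alternatingGroup (Fin 7)) := by
  classical
  have heq : K = L := eq_of_normal_of_seven K L h.le hKA h.norm (by rw [hn]; norm_num)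
    (by rw [hn]; norm_num)
  have hK : Nat.card K = 2520 := by rw [heq, hn]
  have hcp : Nat.card (Equiv.Perm (Subtype (fun a => a ∈ D))) = 5040 := by
    rw [Nat.card_perm]
    have : Nat.card (Subtype (fun a => a ∈ D)) = 7 := hd
    rw [this]
    rfl
  have hr : Nat.card h.resHom.range = 2520 := by
    rw [← hK]
    exact (Nat.card_congr (MonoidHom.ofInjective h.resHom_injective).toEquiv).symm
  have hidx : h.resHom.range.index = 2 := by
    have := h.resHom.range.card_mul_index
    rw [hr, hcp] at this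
    omega
  have halt := Equiv.Perm.eq_alternatingGroup_of_index_eq_two hidx
  have e3 : Subtype (fun a => a ∈ D) ≃ Fin 7 := Finite.equivFinOfCardEq hd
  exact ⟨((MonoidHom.ofInjective h.resHom_injective).trans (MulEquiv.subgroupCongr halt)).trans
    (Equiv.altCongrHom e3)⟩

/-- the case `|L| = 20160` -/
theorem Setup.classify20160 (h : Setup K L D) (hKA : K ≤ A8) (hn : Nat.card L = 20160) :
    Nonempty (K ≃* alternatingGroup (Fin 8)) := by
  have h1 : L = A8 := Subgroup.eq_of_le_of_card_ge (h.le.trans hKA) (by rw [hn, card_A8])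
  have h2 : K = A8 := le_antisymm hKA (h1 ▸ h.le)
  exact ⟨MulEquiv.subgroupCongr h2⟩

/-- the classification of `K` -/
theorem Setup.classify (h : Setup K L D) (hKA : K ≤ A8) [IsSimpleGroup L]
    (hnc : ¬ IsMulCommutative L) (h1344 : Nat.card L ≠ 1344) :
    (∃ n, 5 ≤ n ∧ n ≤ 8 ∧ Nonempty (K ≃* alternatingGroup (Fin n))) ∨
      Nonempty (K ≃* Equiv.Perm (Fin 5)) ∨ Nonempty (K ≃* Equiv.Perm (Fin 6)) ∨
      Nonempty (K ≃* Matrix.GeneralLinearGroup (Fin 3) (ZMod 2)) := by
  rcases h.orders hKA hnc h1344 with ⟨-, hn⟩ | ⟨-, hn⟩ | ⟨hd, hn⟩ | ⟨-, hn⟩ | ⟨-, hn⟩ | ⟨hd, hn⟩ |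
    ⟨-, hn⟩
  · rcases h.classify60 hn with h1 | h1
    · exact Or.inl ⟨5, le_refl _, by norm_num, h1⟩
    · exact Or.inr (Or.inl h1)
  · rcases h.classify60 hn with h1 | h1
    · exact Or.inl ⟨5, le_refl _, by norm_num, h1⟩
    · exact Or.inr (Or.inl h1)
  · rcases h.classify360 hd hn with h1 | h1
    · exact Or.inl ⟨6, by norm_num, by norm_num, h1⟩
    · exact Or.inr (Or.inr (Or.inl h1))
  · exact Or.inr (Or.inr (Or.inr (h.classify168 hKA hn)))
  · exact Or.inr (Or.inr (Or.inr (h.classify168 hKA hn)))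
  · exact Or.inl ⟨7, by norm_num, by norm_num, h.classify2520 hKA hd hn⟩
  · exact Or.inl ⟨8, by norm_num, le_refl _, h.classify20160 hKA hn⟩

end Cfsg.Agent.Helper65.A8Sub
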